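import Groth.Agent.S19255
import Groth.Agent.BCCrit13.Colim
import Groth.Agent.CdFin.OverField
import Groth.Agent.EtLimit.HTools
import Groth.Agent.EtFound.Presentation

/-! finite cohomological dimension for all abelian sheaves over a separably closed field -/

set_option autoImplicit false
set_option linter.style.haveILetI false
set_option backward.isDefEq.respectTransparency false
set_option backward.isDefEq.respectTransparency.types false
set_option maxHeartbeats 1000000

universe u v w

open CategoryTheory CategoryTheory.Limits AlgebraicGeometry Opposite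

namespace Groth.Agent.ClosedSupp12

open Groth.Agent.EtFound Groth.Agent.EtLimit Groth.Agent.BCCrit13

/-- injective presheaves of abelian groups are divisible -/
theorem surjective_nsmul_presheaf {C : Type w} [Category.{v} C] (P : Cᵒᵖ ⥤ AddCommGrpCat.{max w v}) [Injective P]
    (n : ℕ) (hn : 0 < n) (U : Cᵒᵖ) (x : P.obj U) : ∃ y : P.obj U, n • y = x := by
  classical
  let Z : AddCommGrpCat.{max w v} := AddCommGrpCat.of (ULift.{max w v} ℤ)
  let m : Z ⟶ Z := AddCommGrpCat.ofHom
    { toFun := fun a => ⟨(n : ℤ) * a.down⟩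
      map_zero' := ULift.ext _ _ (mul_zero _)
      map_add' := fun a b => ULift.ext _ _ (mul_add _ _ _) }
  haveI : Mono m := (AddCommGrpCat.mono_iff_injective _).2 fun a b h =>
    ULift.ext _ _ (mul_left_cancel₀ (by exact_mod_cast hn.ne') (congrArg ULift.down h))
  have hdiv : ∀ (J : AddCommGrpCat.{max w v}) [Injective J] (a : J), ∃ b : J, n • b = a := fun J _ a => by
    let ev : Z ⟶ J := AddCommGrpCat.ofHom ((zmultiplesHom J a).comp AddEquiv.ulift.toAddMonoidHom)
    let l := Injective.factorThru ev m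
    refine ⟨l ⟨1⟩, ?_⟩
    have h1 : l (m ⟨1⟩) = ev ⟨1⟩ := ConcreteCategory.congr_hom (Injective.comp_factorThru ev m) _
    have h2 : m ⟨1⟩ = (n • (⟨1⟩ : ULift.{max w v} ℤ) : ULift.{max w v} ℤ) := ULift.ext _ _ (by
      show (n : ℤ) * 1 = n • (1 : ℤ)
      simp)
    refine ((map_nsmul l.hom n (⟨1⟩ : ULift.{max w v} ℤ)).symm.trans ((congrArg l h2.symm).trans h1)).trans ?_
    show (1 : ℤ) • a = a
    exact one_zsmul a
  let J : C → AddCommGrpCat.{max w v} := fun W => Injective.under (P.obj (op W))
  let Q : Cᵒᵖ ⥤ AddCommGrpCat.{max w v} :=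
    { obj := fun U => AddCommGrpCat.of (∀ W : C, (W ⟶ U.unop) → J W)
      map := fun f => AddCommGrpCat.ofHom
        { toFun := fun x W h => x W (h ≫ f.unop)
          map_zero' := rfl
          map_add' := fun _ _ => rfl }
      map_id := fun U => AddCommGrpCat.hom_ext <| AddMonoidHom.ext fun x => funext₂ fun W h =>
        congrArg (x W) (Category.comp_id h)
      map_comp := fun f g => AddCommGrpCat.hom_ext <| AddMonoidHom.ext fun x => funext₂ fun W h =>
        congrArg (x W) (Category.assoc h _ _).symm }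
  let j : P ⟶ Q :=
    { app := fun U => AddCommGrpCat.ofHom
        { toFun := fun s W h => (Injective.ι (P.obj (op W))).hom ((P.map h.op).hom s)
          map_zero' := by funext W h; exact (congrArg _ (map_zero _)).trans (map_zero _)
          map_add' := fun _ _ => by funext W h; exact (congrArg _ (map_add _ _ _)).trans (map_add _ _ _) }
      naturality := fun U V f => AddCommGrpCat.hom_ext <| AddMonoidHom.ext fun s => funext fun W => funext fun h =>
        congrArg (fun t => (Injective.ι (P.obj (op W))).hom (t.hom s)) (P.map_comp f h.op).symm }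
  haveI : Mono j := by
    have : ∀ U, Mono (j.app U) := fun U => (AddCommGrpCat.mono_iff_injective _).2 fun s s' hs => by
      have h : (Injective.ι (P.obj (op U.unop))).hom ((P.map (𝟙 U.unop).op).hom s) =
          (Injective.ι (P.obj (op U.unop))).hom ((P.map (𝟙 U.unop).op).hom s') :=
        congrFun (congrFun hs U.unop) (𝟙 _)
      have h' := (AddCommGrpCat.mono_iff_injective (Injective.ι (P.obj (op U.unop)))).1 inferInstance h
      rwa [op_id, CategoryTheory.Functor.map_id] at h'
    exact NatTrans.mono_of_mono_app _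
  let ρ := Injective.factorThru (𝟙 P) j
  have hdiv' : ∀ (W : C) (a : J W), ∃ b : J W, n • b = a := fun W a => hdiv (J W) a
  choose b hb using fun (W : C) (h : W ⟶ U.unop) => hdiv' W ((j.app U).hom x W h)
  let y : Q.obj U := b
  refine ⟨(ρ.app U).hom y, ?_⟩
  rw [← map_nsmul]
  refine (congrArg (ρ.app U).hom (show n • y = (j.app U).hom x from funext₂ hb)).trans ?_
  exact ConcreteCategory.congr_hom (congrArg (fun t => NatTrans.app t U) (Injective.comp_factorThru (𝟙 P) j)) x

variable {X : Scheme.{u}}

/-- multiplication is onto on injective sheaves -/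
theorem epi_nsmul_of_injective (I : EtCoh.Ab X) [Injective I] (n : ℕ) (hn : 0 < n) : Epi (n • 𝟙 I) := by
  haveI : Injective I.obj :=
    Injective.injective_of_adjoint (sheafificationAdjunction X.smallEtaleTopology AddCommGrpCat.{u + 1}) I
  haveI : ∀ U, Epi ((n • 𝟙 I).hom.app U) := fun U => (AddCommGrpCat.epi_iff_surjective _).2 fun x => by
    obtain ⟨y, hy⟩ := surjective_nsmul_presheaf I.obj n hn U x
    exact ⟨y, (nsmul_hom_app (𝟙 I) n U.unop y).trans hy⟩
  haveI : Epi ((sheafToPresheaf X.smallEtaleTopology AddCommGrpCat.{u + 1}).map (n • 𝟙 I)) :=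
    NatTrans.epi_of_epi_app (n • 𝟙 I).hom
  exact (sheafToPresheaf X.smallEtaleTopology AddCommGrpCat.{u + 1}).epi_of_epi_map inferInstance

theorem epi_nsmul_cokernel {F G : EtCoh.Ab X} (a : F ⟶ G) (n : ℕ) [Epi (n • 𝟙 G)] : Epi (n • 𝟙 (cokernel a)) := by
  haveI : Epi ((n • 𝟙 G) ≫ cokernel.π a) := epi_comp _ _
  have e : (n • 𝟙 G) ≫ cokernel.π a = cokernel.π a ≫ (n • 𝟙 (cokernel a)) := by
    rw [Preadditive.nsmul_comp, Category.id_comp, Preadditive.comp_nsmul, Category.comp_id]
  haveI : Epi (cokernel.π a ≫ (n • 𝟙 (cokernel a))) := e ▸ inferInstance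
  exact epi_of_epi (cokernel.π a) _

theorem stalk_nsmul {G : EtCoh.Ab X} {Ω : Type u} [Field Ω] [IsSepClosed Ω] (ξ : Spec (CommRingCat.of Ω) ⟶ X)
    (n : ℕ) (t : (EtCoh.stalk ξ).obj G) : ((EtCoh.stalk ξ).map (n • 𝟙 G)).hom t = n • t := by
  haveI : (EtCoh.stalk ξ).Additive := Functor.additive_of_preserves_binary_products _
  rw [Functor.map_nsmul, CategoryTheory.Functor.map_id]
  rfl

/-- sheaves with surjective multiplications have no cohomology above the torsion dimension and the dimension -/
theorem subsingleton_H_of_divisible [IsNoetherian X] {d N : ℕ} (hd : topologicalKrullDim ↥X ≤ (d : ℕ))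
    (hN : EtCoh.CohDimLE X N) (hdN : d ≤ N) (G : EtCoh.Ab X) (hG : ∀ n : ℕ, 0 < n → Epi (n • 𝟙 G)) (q : ℕ)
    (hq : N < q) : Subsingleton (EtCoh.H X G q) := by
  let ι := torsEnvι G
  haveI hmono : Mono ι := by
    refine (mono_iff_stalks _).2 fun Ω _ _ ξ => ?_
    refine ((injective_iff_map_eq_zero ((EtCoh.stalk ξ).map ι).hom).2 fun t ht => ?_)
    haveI : (EtCoh.stalk ξ).IsLeftAdjoint := (Scheme.pointSmallEtale ξ).skyscraperSheafAdjunction.isLeftAdjoint
    obtain ⟨a, b, rfl⟩ := Types.jointly_surjective _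
      (isColimitOfPreserves (EtCoh.stalk ξ ⋙ forget AddCommGrpCat.{u + 1}) (colimit.isColimit (torsDiag G))) t
    let b' : (EtCoh.stalk ξ).obj (torsN G (idxVal a).factorial) := b
    have h0 : (((EtCoh.stalk ξ).map (kernel.ι ((idxVal a).factorial • 𝟙 G))).hom) b' = 0 := by
      rw [← ι_torsEnvι G a, Functor.map_comp]
      exact ht
    haveI : Mono ((EtCoh.stalk ξ).map (kernel.ι ((idxVal a).factorial • 𝟙 G))) := inferInstance
    have hb : b' = 0 := (AddCommGrpCat.mono_iff_injective _).1 ‹_› (h0.trans (map_zero _).symm)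
    show ((EtCoh.stalk ξ).map (colimit.ι (torsDiag G) a)).hom b' = 0
    rw [hb, map_zero]
  let S : ShortComplex (EtCoh.Ab X) := ShortComplex.mk ι (cokernel.π ι) (cokernel.condition ι)
  have hS : S.ShortExact :=
    { exact := ShortComplex.exact_of_g_is_cokernel _ (cokernelIsCokernel ι)
      mono_f := hmono
      epi_g := inferInstanceAs (Epi (cokernel.π ι)) }
  have hQ : ∀ (U : X.Etale) (m : ℕ), 0 < m →
      Function.Bijective (fun s : EtCoh.sect (cokernel ι) U => m • s) := fun U m hm => by
    haveI := hG m hm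
    haveI := epi_nsmul_cokernel ι m
    have hiso : IsIso (m • 𝟙 (cokernel ι)) := isIso_of_stalks _ fun Ω _ _ ξ => by
      haveI : (EtCoh.stalk ξ).Additive := Functor.additive_of_preserves_binary_products _
      haveI : Epi ((EtCoh.stalk ξ).map (m • 𝟙 (cokernel ι))) := inferInstance
      refine ⟨(injective_iff_map_eq_zero _).2 fun t ht => ?_,
        (AddCommGrpCat.epi_iff_surjective ((EtCoh.stalk ξ).map (m • 𝟙 (cokernel ι)))).1 inferInstance⟩
      obtain ⟨g, rfl⟩ := (AddCommGrpCat.epi_iff_surjective ((EtCoh.stalk ξ).map (cokernel.π ι))).1 inferInstance t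
      have hg : ((EtCoh.stalk ξ).map (cokernel.π ι)).hom (m • g) = 0 := by
        rw [map_nsmul]
        exact (stalk_nsmul ξ m _).symm.trans ht
      obtain ⟨z, hz⟩ := (ShortComplex.ab_exact_iff _).1
        (hS.exact.map (EtCoh.stalk ξ)) (m • g) hg
      obtain ⟨k, hk, hkz⟩ := (isTorsion_iff_stalks _).1 (isTorsion_torsEnv G) Ω ξ z
      have hkg : (k * m) • g = 0 := by
        have h' := congrArg ((EtCoh.stalk ξ).map ι).hom hkz
        rw [map_nsmul, map_zero] at h'
        rw [mul_nsmul', ← hz]
        exact h'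
      let a : Idx.{u} := idxOf (k * m)
      have hfac : ((idxVal a).factorial) • g = 0 := by
        obtain ⟨e, he⟩ := Nat.dvd_factorial (Nat.mul_pos hk hm) (le_refl (k * m))
        show (k * m).factorial • g = 0
        rw [he, mul_nsmul, hkg, nsmul_zero]
      obtain ⟨b, hb⟩ := (ShortComplex.ab_exact_iff _).1
        ((ShortComplex.exact_of_f_is_kernel (ShortComplex.mk (kernel.ι ((idxVal a).factorial • 𝟙 G))
          ((idxVal a).factorial • 𝟙 G) (kernel.condition _)) (kernelIsKernel _)).map (EtCoh.stalk ξ)) g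
        ((stalk_nsmul ξ _ g).trans hfac)
      have hb' : ((EtCoh.stalk ξ).map ι).hom (((EtCoh.stalk ξ).map (colimit.ι (torsDiag G) a)).hom b) = g := by
        refine Eq.trans ?_ hb
        exact ConcreteCategory.congr_hom (((EtCoh.stalk ξ).map_comp _ _).symm.trans
          (congrArg (EtCoh.stalk ξ).map (ι_torsEnvι G a))) b
      rw [← hb']
      show ((EtCoh.stalk ξ).map ι ≫ (EtCoh.stalk ξ).map (cokernel.π ι)).hom _ = 0
      rw [← Functor.map_comp, cokernel.condition, Functor.map_zero]
      rfl
    have := hiso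
    haveI : IsIso ((m • 𝟙 (cokernel ι)).hom.app (op U)) :=
      inferInstanceAs (IsIso ((sheafToPresheaf X.smallEtaleTopology AddCommGrpCat.{u + 1} ⋙
        (evaluation _ _).obj (op U)).map (m • 𝟙 (cokernel ι))))
    have e : ⇑((m • 𝟙 (cokernel ι)).hom.app (op U)) = fun s : EtCoh.sect (cokernel ι) U => m • s :=
      funext fun s => nsmul_hom_app (𝟙 (cokernel ι)) m U s
    rw [← e]
    exact (ConcreteCategory.isIso_iff_bijective _).1 inferInstance
  haveI h1 : Subsingleton (EtCoh.H X (torsEnv G) q) := hN _ (isTorsion_torsEnv G) q hq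
  haveI h2 : Subsingleton (EtCoh.H X (cokernel ι) q) := S19255.result X d hd _ hQ q (by omega)
  refine subsingleton_of_forall_eq 0 fun x => ?_
  obtain ⟨y, rfl⟩ := exists_hmap_of_hmap_eq_zero hS q x (@Subsingleton.elim _ h2 _ _)
  rw [@Subsingleton.elim _ h1 y 0, map_zero]

/-- schemes of finite type over separably closed fields have finite dimension for all abelian sheaves -/
theorem exists_cd_all {K : Type u} [Field K] [IsSepClosed K] (f : X ⟶ Spec (CommRingCat.of K))
    [LocallyOfFiniteType f] [QuasiCompact f] :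
    ∃ d : ℕ, ∀ (F : EtCoh.Ab X) (q : ℕ), d < q → Subsingleton (EtCoh.H X F q) := by
  obtain ⟨n, hn⟩ := CdFin.exists_dim_le f
  haveI : IsLocallyNoetherian X := LocallyOfFiniteType.isLocallyNoetherian f
  haveI : CompactSpace X := QuasiCompact.compactSpace_of_compactSpace f
  haveI : IsNoetherian X := ⟨⟩
  have hN := CdFin.cohDimLE_over_field f hn (CdFin.cohDimLE_sepClosed K)
  refine ⟨2 * n + 1, fun F q hq => ?_⟩
  obtain ⟨p, rfl⟩ : ∃ p, q = p + 1 := ⟨q - 1, by omega⟩
  let S : ShortComplex (EtCoh.Ab X) := EtMVLib.injSES F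
  have hS : S.ShortExact := EtMVLib.injSES_shortExact F
  haveI : Injective S.X₂ := inferInstanceAs (Injective (Injective.under F))
  have h3 : Subsingleton (EtCoh.H X S.X₃ p) :=
    subsingleton_H_of_divisible hn hN (by omega) _ (fun m hm => by
      haveI := epi_nsmul_of_injective (Injective.under F) m hm
      exact epi_nsmul_cokernel (Injective.ι F) m) p (by omega)
  refine subsingleton_of_forall_eq 0 fun x => ?_
  obtain ⟨y, rfl⟩ := exists_hδ_of_hmap_eq_zero hS (rfl : p + 1 = p + 1) x
    (Abelian.Ext.eq_zero_of_injective _)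
  rw [@Subsingleton.elim _ h3 y 0, map_zero]

end Groth.Agent.ClosedSupp12
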