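import Groth.Agent.SiteBase.CompactDevissage

/-! maps from a single object into complexes with acyclic cohomology under finite cohomological dimension -/

universe w' w v u

open CategoryTheory CategoryTheory.Category CategoryTheory.Limits CategoryTheory.Pretriangulated
open CategoryTheory.Abelian DerivedCategory.TStructure

namespace Groth.Agent.ClosedSupp12

set_option autoImplicit false
set_option linter.style.haveILetI false
set_option backward.isDefEq.respectTransparency.types false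

variable {A : Type u} [Category.{v} A] [Abelian A] [IsGrothendieckAbelian.{v} A]
  [HasDerivedCategory.{w} A] [HasExt.{w'} A]

/-- no higher extensions out of `P` -/
def Acyc (P G : A) : Prop := ∀ q : ℕ, Subsingleton (Ext.{w'} P G (q + 1))

/-- all cohomology objects have no higher extensions out of `P` -/
def CohAcyc (P : A) (N : DerivedCategory A) : Prop :=
  ∀ i : ℤ, Acyc.{w'} P ((DerivedCategory.homologyFunctor A i).obj N)

omit [IsGrothendieckAbelian.{v} A] [HasDerivedCategory.{w} A] in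
theorem acyc_of_iso {P G G' : A} (e : G ≅ G') (h : Acyc.{w'} P G) : Acyc.{w'} P G' := fun q => by
  refine @Function.Surjective.subsingleton _ _
    (fun x : Ext P G (q + 1) => x.comp (Ext.mk₀ e.hom) (add_zero _)) (h q) fun y => ?_
  exact ⟨y.comp (Ext.mk₀ e.inv) (add_zero _), by
    simp [Ext.comp_assoc_of_third_deg_zero, Ext.mk₀_comp_mk₀, Ext.comp_mk₀_id]⟩

omit [IsGrothendieckAbelian.{v} A] [HasDerivedCategory.{w} A] in
theorem acyc_of_isZero {P G : A} (h : IsZero G) : Acyc.{w'} P G := fun q =>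
  subsingleton_of_forall_eq 0 fun x => by
    rw [← Ext.comp_mk₀_id x, h.eq_of_src (𝟙 G) 0, Ext.mk₀_zero, Ext.comp_zero]

variable {T : Triangle (DerivedCategory A)} (hT : T ∈ distTriang _)

include hT in
omit [IsGrothendieckAbelian.{v} A] [HasExt.{w'} A] in
/-- the middle and last terms agree above the first -/
theorem isIso_mor₂ (a i : ℤ) [T.obj₁.IsLE a] (hi : a < i) :
    IsIso ((DerivedCategory.homologyFunctor A i).map T.mor₂) := by
  haveI := (DerivedCategory.HomologySequence.exact₂ T hT i).mono_g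
    ((DerivedCategory.isZero_of_isLE T.obj₁ a i hi).eq_of_src _ _)
  haveI := (DerivedCategory.HomologySequence.exact₃ T hT i (i + 1) rfl).epi_f
    ((DerivedCategory.isZero_of_isLE T.obj₁ a (i + 1) (by omega)).eq_of_tgt _ _)
  exact isIso_of_mono_of_epi _

include hT in
omit [IsGrothendieckAbelian.{v} A] [HasExt.{w'} A] in
/-- the first and middle terms agree below the last -/
theorem isIso_mor₁ (c i : ℤ) [T.obj₃.IsGE c] (hi : i < c) :
    IsIso ((DerivedCategory.homologyFunctor A i).map T.mor₁) := by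
  haveI := (DerivedCategory.HomologySequence.exact₂ T hT i).epi_f
    ((DerivedCategory.isZero_of_isGE T.obj₃ c i hi).eq_of_tgt _ _)
  haveI := (DerivedCategory.HomologySequence.exact₁ T hT (i - 1) i (by omega)).mono_g
    ((DerivedCategory.isZero_of_isGE T.obj₃ c (i - 1) (by omega)).eq_of_src _ _)
  exact isIso_of_mono_of_epi _

include hT in
omit [IsGrothendieckAbelian.{v} A] in
theorem cohAcyc_obj₁ {P : A} (h : CohAcyc.{w'} P T.obj₂) (a c : ℤ) [T.obj₁.IsLE a] [T.obj₃.IsGE c] (hac : a < c) :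
    CohAcyc.{w'} P T.obj₁ := fun i => by
  by_cases hi : a < i
  · exact acyc_of_isZero (DerivedCategory.isZero_of_isLE T.obj₁ a i hi)
  · haveI := isIso_mor₁ hT c i (by omega)
    exact acyc_of_iso (asIso ((DerivedCategory.homologyFunctor A i).map T.mor₁)).symm (h i)

omit [IsGrothendieckAbelian.{v} A] [HasExt.{w'} A] in
/-- the cohomology object of a complex concentrated in one degree -/
theorem nonempty_homology_iso {N : DerivedCategory A} {Y : A} {n : ℤ}
    (e : N ≅ (DerivedCategory.singleFunctor A n).obj Y) :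
    Nonempty ((DerivedCategory.homologyFunctor A n).obj N ≅ Y) :=
  ⟨(DerivedCategory.homologyFunctor A n).mapIso e ≪≫ (DerivedCategory.singleFunctorCompHomologyFunctorIso A n).app Y⟩

variable {P : A} {d : ℕ}
  (hd : ∀ (F : A) (i : ℕ), d < i → Subsingleton (Ext.{w'} P F i))

include hd in
/-- no maps into negative complexes with acyclic cohomology -/
theorem eq_zero_of_isLE_neg : ∀ (k : ℕ) (b : ℤ), b ≤ -1 → b - k ≤ -(d : ℤ) - 2 →
    ∀ (N : DerivedCategory A) [N.IsLE b], CohAcyc.{w'} P N →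
      ∀ φ : (DerivedCategory.singleFunctor A 0).obj P ⟶ N, φ = 0 := by
  intro k
  induction k with
  | zero =>
    intro b _ hb N _ _ φ
    exact Groth.Agent.CompactDevissage.eq_zero_of_isLE d hd N (t.isLE_of_le N b _ (by simpa using hb)) φ
  | succ k ih =>
    intro b hb hbk N hN hc φ
    obtain ⟨A', B, hA, hB, f, g, h, hT⟩ := t.exists_triangle N (b - 1) b (by omega)
    haveI : A'.IsLE (b - 1) := ⟨hA⟩
    haveI : B.IsGE b := ⟨hB⟩
    haveI : (Triangle.mk f g h).obj₁.IsLE (b - 1) := ⟨hA⟩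
    haveI : (Triangle.mk f g h).obj₃.IsGE b := ⟨hB⟩
    haveI : B.IsLE b := (DerivedCategory.isLE_iff B b).2 fun i hi => by
      haveI : IsIso ((DerivedCategory.homologyFunctor A i).map g) := isIso_mor₂ hT (b - 1) i (by omega)
      exact (DerivedCategory.isZero_of_isLE N b i hi).of_iso
        (asIso ((DerivedCategory.homologyFunctor A i).map g)).symm
    obtain ⟨Y, ⟨eY⟩⟩ := DerivedCategory.exists_iso_singleFunctor_obj_of_isGE_of_isLE B b
    obtain ⟨m, hm⟩ : ∃ m : ℕ, -b = ((m + 1 : ℕ) : ℤ) := ⟨(-b - 1).toNat, by omega⟩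
    have hY : Acyc.{w'} P Y := by
      obtain ⟨eH⟩ := nonempty_homology_iso eY
      haveI : IsIso ((DerivedCategory.homologyFunctor A b).map g) := isIso_mor₂ hT (b - 1) b (by omega)
      exact acyc_of_iso (asIso ((DerivedCategory.homologyFunctor A b).map g) ≪≫ eH) (hc b)
    let e : B ≅ ((DerivedCategory.singleFunctor A 0).obj Y)⟦((m + 1 : ℕ) : ℤ)⟧ :=
      eY ≪≫ (((DerivedCategory.singleFunctors A).shiftIso ((m + 1 : ℕ) : ℤ) b 0 (by omega)).app Y).symm
    have hφ : φ ≫ g = 0 := by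
      rw [← cancel_mono e.hom, zero_comp]
      haveI := hY m
      exact @Subsingleton.elim _ (Ext.homEquiv (X := P) (Y := Y) (n := m + 1)).symm.subsingleton _ _
    obtain ⟨χ, rfl⟩ := Triangle.coyoneda_exact₂ _ hT φ hφ
    have hA' : CohAcyc.{w'} P A' := cohAcyc_obj₁ hT hc (b - 1) b (by omega)
    exact (congrArg (· ≫ f) (ih (b - 1) (by omega) (by omega) A' hA' χ)).trans zero_comp

include hd in
/-- the degree zero cohomology has no sections when there are no maps -/
theorem subsingleton_hom_homology (N : DerivedCategory A) (hc : CohAcyc.{w'} P N)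
    (h0 : Subsingleton ((DerivedCategory.singleFunctor A 0).obj P ⟶ N)) :
    Subsingleton (P ⟶ (DerivedCategory.homologyFunctor A 0).obj N) := by
  obtain ⟨A', B, hA, hB, f, g, h, hT⟩ := t.exists_triangle N 0 1 (by omega)
  haveI : (Triangle.mk f g h).obj₁.IsLE 0 := ⟨hA⟩
  haveI : (Triangle.mk f g h).obj₃.IsGE 1 := ⟨hB⟩
  haveI : B.IsGE 1 := ⟨hB⟩
  haveI : A'.IsLE 0 := ⟨hA⟩
  haveI : IsIso ((DerivedCategory.homologyFunctor A 0).map f) := isIso_mor₁ hT 1 0 (by omega)
  have h1 : ∀ ψ : (DerivedCategory.singleFunctor A 0).obj P ⟶ A', ψ = 0 := fun ψ => by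
    haveI : (B⟦(-1 : ℤ)⟧).IsGE 2 := t.isGE_shift B 1 (-1) 2
    obtain ⟨χ, rfl⟩ := Triangle.coyoneda_exact₂ _ (inv_rot_of_distTriang _ hT) ψ (@Subsingleton.elim _ h0 _ _)
    exact (congrArg (· ≫ (Triangle.mk f g h).invRotate.mor₁)
      (t.zero_of_isLE_of_isGE χ 0 2 (by omega) inferInstance ‹(B⟦(-1 : ℤ)⟧).IsGE 2›)).trans zero_comp
  have hc' : CohAcyc.{w'} P A' := cohAcyc_obj₁ hT hc 0 1 (by omega)
  obtain ⟨C', D, hC, hD, f', g', h', hT'⟩ := t.exists_triangle A' (-1) 0 (by omega)
  haveI : (Triangle.mk f' g' h').obj₁.IsLE (-1) := ⟨hC⟩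
  haveI : (Triangle.mk f' g' h').obj₃.IsGE 0 := ⟨hD⟩
  haveI : C'.IsLE (-1) := ⟨hC⟩
  haveI : D.IsGE 0 := ⟨hD⟩
  haveI : D.IsLE 0 := (DerivedCategory.isLE_iff D 0).2 fun i hi => by
    haveI : IsIso ((DerivedCategory.homologyFunctor A i).map g') := isIso_mor₂ hT' (-1) i (by omega)
    exact (DerivedCategory.isZero_of_isLE A' 0 i hi).of_iso
      (asIso ((DerivedCategory.homologyFunctor A i).map g')).symm
  obtain ⟨Y, ⟨eY⟩⟩ := DerivedCategory.exists_iso_singleFunctor_obj_of_isGE_of_isLE D 0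
  have hC'' : CohAcyc.{w'} P (C'⟦(1 : ℤ)⟧) := fun i =>
    acyc_of_iso ((((DerivedCategory.homologyFunctor A 0).shiftIso 1 i (i + 1) (by omega)).app C').symm)
      (cohAcyc_obj₁ hT' hc' (-1) 0 (by omega) (i + 1))
  haveI : (C'⟦(1 : ℤ)⟧).IsLE (-2) := t.isLE_shift C' (-1) 1 (-2)
  have h2 : ∀ y : (DerivedCategory.singleFunctor A 0).obj P ⟶ D, y = 0 := fun y => by
    obtain ⟨χ, rfl⟩ := Triangle.coyoneda_exact₃ _ hT' y
      (eq_zero_of_isLE_neg hd d (-2) (by omega) (by omega) (C'⟦(1 : ℤ)⟧) hC'' _)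
    exact (congrArg (· ≫ g') (h1 χ)).trans zero_comp
  haveI : IsIso ((DerivedCategory.homologyFunctor A 0).map g') := isIso_mor₂ hT' (-1) 0 (by omega)
  obtain ⟨eH⟩ := nonempty_homology_iso eY
  let e : Y ≅ (DerivedCategory.homologyFunctor A 0).obj N :=
    eH.symm ≪≫ (asIso ((DerivedCategory.homologyFunctor A 0).map g')).symm ≪≫
      asIso ((DerivedCategory.homologyFunctor A 0).map f)
  refine subsingleton_of_forall_eq 0 fun x => ?_
  have hx : (DerivedCategory.singleFunctor A 0).map (x ≫ e.inv) = 0 := by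
    rw [← cancel_mono eY.inv, zero_comp]
    exact h2 _
  rw [← cancel_mono e.inv, zero_comp]
  exact (DerivedCategory.singleFunctor A 0).map_injective (hx.trans (Functor.map_zero _ _ _).symm)

end Groth.Agent.ClosedSupp12
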