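import Groth.Agent.ClosedSupp12.CdAll
import Groth.Agent.ClosedSupp12.Derived
import Groth.Agent.ProperLA12.Skyscraper
import Groth.Agent.S0171
import Groth.Prelude.Def_DCoh2

/-! complexes supported at closed points over a separably closed field -/

set_option autoImplicit false
set_option linter.style.haveILetI false
set_option backward.isDefEq.respectTransparency false
set_option backward.isDefEq.respectTransparency.types false
set_option maxHeartbeats 1000000

universe u

open CategoryTheory CategoryTheory.Limits AlgebraicGeometry Opposite CategoryTheory.Abelian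

attribute [local instance] HasDerivedCategory.standard

namespace Groth.Agent.ClosedSupp12

open Groth.Agent.EtFound Groth.Agent.EtLimit Groth.Agent.EtSupp13

variable {K : Type u} [Field K] [IsSepClosed K] {X : Scheme.{u}} (a : X ⟶ Spec (CommRingCat.of K))
  [LocallyOfFiniteType a] [QuasiCompact a]

include a in
/-- global sections detect sheaves supported at closed points -/
theorem isZero_of_subsingleton_H_zero (G : EtCoh.Ab X) (hG : ∀ x ∈ EtPBC.supp G, IsClosed ({x} : Set X))
    (h0 : Subsingleton (EtCoh.H X G 0)) : IsZero G := by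
  haveI : IsLocallyNoetherian X := LocallyOfFiniteType.isLocallyNoetherian a
  haveI := isIso_desc G hG
  have hpart : ∀ s, IsZero (part G s) := fun s =>
    (ProperLA12.globalDetects_of_finite (finite_pts s).toFinset
      (fun x hx => isClosed_singleton_of_mem_pts ((Set.Finite.mem_toFinset _).1 hx))
      (fun x hx => ProperLA12.isSepClosed_residueField_of_isClosed a x
        (isClosed_singleton_of_mem_pts ((Set.Finite.mem_toFinset _).1 hx)))
      (part G s) (fun Ω _ _ ξ hξ => isZero_stalk_part G s ξ fun h => hξ ((Set.Finite.mem_toFinset _).2 h))).2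
      (subsingleton_of_forall_eq 0 fun z => hmap_zero_injective (kernel.ι (res G s))
        (@Subsingleton.elim _ h0 _ _))
  have hc : IsZero (colimit (parts G)) :=
    (IsZero.iff_id_eq_zero _).2 (colimit.hom_ext fun s => (hpart s).eq_of_src _ _)
  exact hc.of_iso (asIso (colimit.desc (parts G) (partsCocone G))).symm

include a in
theorem isZero_of_subsingleton_hom (Q : DCoh.DEt X)
    (hQ : ∀ (x : ↥X), ¬ IsClosed ({x} : Set ↥X) → ∀ (Ω : Type u) [Field Ω] [IsSepClosed Ω]
      (ξ : Spec (CommRingCat.of Ω) ⟶ X), Set.range ξ.base = {x} →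
        ∀ i : ℤ, IsZero ((EtCoh.stalk ξ).obj (DCoh.HDEt Q i)))
    (h : ∀ i : ℤ, Subsingleton
      ((DerivedCategory.singleFunctor (EtCoh.Ab X) 0).obj (EtCoh.const X ℤ) ⟶ (shiftFunctor (DCoh.DEt X) i).obj Q)) :
    IsZero Q := by
  have hsupp : ∀ i, ∀ x ∈ EtPBC.supp (DCoh.HDEt Q i), IsClosed ({x} : Set X) := fun i x hx => by
    by_contra hc
    obtain ⟨Ω, _, _, ξ, hξ, hne⟩ := hx
    exact hne (hQ x hc Ω ξ hξ i)
  obtain ⟨d, hd⟩ := exists_cd_all a
  have hzero : ∀ i, IsZero (DCoh.HDEt Q i) := fun i => by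
    let e : ∀ j, (DerivedCategory.homologyFunctor (EtCoh.Ab X) j).obj (Q⟦i⟧) ≅ DCoh.HDEt Q (i + j) := fun j =>
      ((DerivedCategory.homologyFunctor (EtCoh.Ab X) 0).shiftIso i j (i + j) rfl).app Q
    have hc : CohAcyc.{u + 1} (EtCoh.const X ℤ) (Q⟦i⟧) := fun j =>
      acyc_of_iso (e j).symm fun q => S0171.result X a _ (hsupp (i + j)) (q + 1) q.succ_pos
    have h1 := subsingleton_hom_homology (P := EtCoh.const X ℤ) (d := d) hd (Q⟦i⟧) hc (h i)
    have e0 : (DerivedCategory.homologyFunctor (EtCoh.Ab X) 0).obj (Q⟦i⟧) ≅ DCoh.HDEt Q i :=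
      e 0 ≪≫ eqToIso (by rw [add_zero])
    refine isZero_of_subsingleton_H_zero a _ (hsupp i) ?_
    haveI : Subsingleton (EtCoh.const X ℤ ⟶ DCoh.HDEt Q i) :=
      subsingleton_of_forall_eq 0 fun x => by
        rw [← cancel_mono e0.inv, zero_comp]
        exact @Subsingleton.elim _ h1 _ _
    exact (Ext.homEquiv₀ (X := EtCoh.const X ℤ) (Y := DCoh.HDEt Q i)).subsingleton
  haveI : Q.IsLE (-1) := (DerivedCategory.isLE_iff Q _).2 fun i _ => hzero i
  haveI : Q.IsGE 0 := (DerivedCategory.isGE_iff Q _).2 fun i _ => hzero i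
  exact DerivedCategory.TStructure.t.isZero Q (-1) 0 (by omega)

end Groth.Agent.ClosedSupp12
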